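import Groth.Agent.S9605
import Groth.Agent.S5078
import Groth.Agent.CAlgH.DecayLocal
import Groth.Agent.Hensel.Main
import Groth.Agent.Hensel.Product

/-!
# Finite algebras over complete Noetherian local rings
-/

set_option autoImplicit false
universe u

open IsLocalRing

namespace Groth.Agent.CplFin

/-- Finite modules over complete Noetherian rings are complete. -/
theorem isAdicComplete_of_finite (A : Type u) [CommRing A] [IsNoetherianRing A] (I : Ideal A)
    [IsAdicComplete I A] (M : Type u) [AddCommGroup M] [Module A M] [Module.Finite A M] :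
    IsAdicComplete I M := by
  obtain ⟨n, f, hf⟩ := Module.Finite.exists_fin' A M
  haveI : IsAdicComplete I (Fin n → A) := Groth.Agent.S5078.result I (Fin n → A)
  haveI : IsHausdorff I M := CAlgH.Decay.isHausdorff_of_finite I M
  haveI : IsAdicComplete I ((Fin n → A) ⧸ LinearMap.ker f) := by
    rw [Groth.Agent.S9605.result]
    refine le_antisymm (le_iInf fun k => le_sup_left) fun x hx => ?_
    rw [LinearMap.mem_ker]
    refine IsHausdorff.haus (I := I) inferInstance _ fun k => ?_
    rw [SModEq.zero]
    obtain ⟨a, ha, b, hb, hab⟩ := Submodule.mem_sup.1 ((Submodule.mem_iInf _).1 hx k)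
    rw [← hab, map_add, LinearMap.mem_ker.1 ha, zero_add]
    have := Submodule.mem_map_of_mem (f := f) hb
    rw [Submodule.map_smul''] at this
    exact Submodule.smul_mono le_rfl le_top this
  exact CAlgH.Decay.isAdicComplete_of_equiv I (LinearMap.quotKerEquivOfSurjective f hf)

/-- Completeness only depends on the ideal up to powers. -/
theorem isAdicComplete_of_le_of_pow_le (S : Type u) [CommRing S] (J m : Ideal S)
    [IsAdicComplete J S] (hle : J ≤ m) (k : ℕ) (hk : k ≠ 0) (hpow : m ^ k ≤ J) :
    IsAdicComplete m S where
  toIsHausdorff := ⟨fun x hx => IsHausdorff.haus (I := J) inferInstance x fun n => by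
    rw [SModEq.zero, Ideal.smul_top_eq_map, Algebra.algebraMap_self, Ideal.map_id,
      Submodule.restrictScalars_mem]
    have h := hx (k * n)
    rw [SModEq.zero, Ideal.smul_top_eq_map, Algebra.algebraMap_self, Ideal.map_id,
      Submodule.restrictScalars_mem, pow_mul] at h
    exact Ideal.pow_right_mono hpow n h⟩
  toIsPrecomplete := ⟨fun f hf => by
    have hf' : ∀ {a b : ℕ}, a ≤ b → f a - f b ∈ m ^ a := fun {a b} hab => by
      have h := hf hab
      rwa [SModEq.sub_mem, Ideal.smul_top_eq_map, Algebra.algebraMap_self, Ideal.map_id,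
        Submodule.restrictScalars_mem] at h
    obtain ⟨L, hL⟩ := IsPrecomplete.prec (inferInstance : IsPrecomplete J S)
      (f := fun n => f (k * n)) (fun {a b} hab => by
        rw [SModEq.sub_mem, Ideal.smul_top_eq_map, Algebra.algebraMap_self, Ideal.map_id,
          Submodule.restrictScalars_mem]
        have h := hf' (Nat.mul_le_mul_left k hab)
        rw [pow_mul] at h
        exact Ideal.pow_right_mono hpow a h)
    refine ⟨L, fun n => ?_⟩
    have h := hL n
    rw [SModEq.sub_mem, Ideal.smul_top_eq_map, Algebra.algebraMap_self, Ideal.map_id,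
      Submodule.restrictScalars_mem] at h ⊢
    have h1 := hf' (Nat.le_mul_of_pos_left n (Nat.pos_of_ne_zero hk))
    have h2 : f n - L = (f n - f (k * n)) + (f (k * n) - L) := by ring
    rw [h2]
    exact add_mem h1 (Ideal.pow_right_mono hle n h)⟩

/-- A finite local algebra over a complete Noetherian local ring is complete. -/
theorem isAdicComplete_local (R : Type u) [CommRing R] [IsLocalRing R] [IsNoetherianRing R]
    [IsAdicComplete (maximalIdeal R) R] (S : Type u) [CommRing S] [IsLocalRing S] [Algebra R S]
    [Module.Finite R S] : IsAdicComplete (maximalIdeal S) S := by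
  let J := (maximalIdeal R).map (algebraMap R S)
  haveI : IsAdicComplete J S := (IsAdicComplete.map_algebraMap_iff _ _).2
    (isAdicComplete_of_finite R (maximalIdeal R) S)
  haveI : IsNoetherianRing S := IsNoetherianRing.of_finite R S
  haveI : IsLocalHom (algebraMap R S) := by
    constructor
    intro a ha
    by_contra hna
    have h1 := IsAdicComplete.le_jacobson_bot J (Ideal.mem_map_of_mem (algebraMap R S)
      ((mem_maximalIdeal a).2 hna))
    rw [IsLocalRing.jacobson_eq_maximalIdeal ⊥ bot_ne_top] at h1
    exact (mem_maximalIdeal _).1 h1 ha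
  have hle : J ≤ maximalIdeal S := Ideal.map_le_iff_le_comap.2
    ((local_hom_TFAE (algebraMap R S)).out 0 4 rfl rfl |>.1 inferInstance).ge
  have hrad : maximalIdeal S ≤ J.radical := by
    rw [Ideal.radical_eq_sInf]
    refine le_sInf fun P ⟨hP, hPp⟩ => ?_
    have h1 : P.comap (algebraMap R S) = maximalIdeal R :=
      ((maximalIdeal.isMaximal R).eq_of_le (Ideal.comap_ne_top _ hPp.ne_top)
        (Ideal.map_le_iff_le_comap.1 hP)).symm
    haveI := hPp
    haveI : (P.comap (algebraMap R S)).IsMaximal := h1 ▸ maximalIdeal.isMaximal R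
    exact (eq_maximalIdeal (Ideal.isMaximal_of_isIntegral_of_isMaximal_comap (R := R) P ‹_›)).ge
  obtain ⟨k, hk⟩ := Ideal.exists_pow_le_of_le_radical_of_fg hrad (IsNoetherian.noetherian _)
  exact isAdicComplete_of_le_of_pow_le S J _ hle (k + 1) (by omega)
    ((Ideal.pow_le_pow_right (Nat.le_succ k)).trans hk)

/-- A finite algebra over a complete Noetherian local ring is the product of its localizations. -/
theorem bijective_pi (R : Type u) [CommRing R] [IsLocalRing R]
    [IsAdicComplete (maximalIdeal R) R] (S : Type u) [CommRing S] [Algebra R S] [Module.Finite R S] :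
    Finite (MaximalSpectrum S) ∧ Function.Bijective
      (RingHom.pi fun n : MaximalSpectrum S ↦ algebraMap S (Localization.AtPrime n.asIdeal)) := by
  refine Hensel.bijective_pi_localization_of_surjOn (A := R) fun x hx => ?_
  obtain ⟨b, rfl⟩ := Ideal.Quotient.mk_surjective x
  have hb : b * b - b ∈ (maximalIdeal R).map (algebraMap R S) :=
    Ideal.Quotient.eq.mp ((map_mul _ _ _).trans hx)
  obtain ⟨e, he, heb⟩ := Hensel.exists_idem_lift_of_finite
    (Hensel.gabberRoot_of_henselianRing (A := R) (I := maximalIdeal R)) b hb
  exact ⟨e, he, Ideal.Quotient.eq.mpr heb⟩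

end Groth.Agent.CplFin
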