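import Groth.Agent.CplFin.Basic
import Mathlib.AlgebraicGeometry.Limits
import Mathlib.RingTheory.AdicCompletion.RingHom

/-!
# Points of a scheme with values in a complete ring are compatible systems of points modulo powers
-/

set_option autoImplicit false
set_option backward.isDefEq.respectTransparency.types false
universe u

open CategoryTheory CategoryTheory.Limits AlgebraicGeometry IsLocalRing

namespace Groth.Agent.CplFin

/-- The closed subscheme of `Spec L` cut out by `I ^ n`. -/
noncomputable abbrev thick (L : Type u) [CommRing L] (I : Ideal L) (n : ℕ) :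
    Spec (CommRingCat.of (L ⧸ I ^ n)) ⟶ Spec (CommRingCat.of L) :=
  Spec.map (CommRingCat.ofHom (Ideal.Quotient.mk (I ^ n)))

/-- The transition map between thickenings. -/
noncomputable abbrev thickStep (L : Type u) [CommRing L] (I : Ideal L) {n m : ℕ} (h : n ≤ m) :
    Spec (CommRingCat.of (L ⧸ I ^ n)) ⟶ Spec (CommRingCat.of (L ⧸ I ^ m)) :=
  Spec.map (CommRingCat.ofHom (Ideal.Quotient.factor (Ideal.pow_le_pow_right h)))

section Local

variable {L : Type u} [CommRing L] [IsLocalRing L] (I : Ideal L) (hI : I ≤ maximalIdeal L) {Y : Scheme.{u}}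

include hI in
theorem closedPoint_mem_range_thick (n : ℕ) : closedPoint L ∈ Set.range (thick L I (n + 1)) := by
  have h : I ^ (n + 1) ≤ maximalIdeal L := (Ideal.pow_le_self (Nat.succ_ne_zero n)).trans hI
  exact (Set.ext_iff.1 (range_comap_of_surjective _ (Ideal.Quotient.mk (I ^ (n + 1)))
    Ideal.Quotient.mk_surjective) (closedPoint L)).2 (by rw [Ideal.mk_ker]; exact h)

/-- A map from a local scheme lands in every open containing the image of the closed point. -/
theorem range_subset_of_closedPoint (f : Spec (CommRingCat.of L) ⟶ Y) (U : Y.Opens) (h : f (closedPoint L) ∈ U) :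
    Set.range f ⊆ Set.range U.ι := by
  rw [Scheme.Opens.range_ι]
  rintro _ ⟨x, rfl⟩
  exact ((IsLocalRing.specializes_closedPoint x).map f.continuous).mem_open U.isOpen h

include hI in
theorem hom_ext_thick [IsHausdorff I L] (f g : Spec (CommRingCat.of L) ⟶ Y)
    (h : ∀ n, thick L I n ≫ f = thick L I n ≫ g) : f = g := by
  obtain ⟨c, hc⟩ := closedPoint_mem_range_thick I hI 0
  have hfg : f (closedPoint L) = g (closedPoint L) := by
    rw [← hc, ← Scheme.Hom.comp_apply, h 1, Scheme.Hom.comp_apply]
  obtain ⟨U, hU, hmem, -⟩ := exists_isAffineOpen_mem_and_subset (x := f (closedPoint L)) (U := ⊤) trivial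
  have hr : ∀ e : Spec (CommRingCat.of L) ⟶ Y, e (closedPoint L) = f (closedPoint L) →
      ∃ φ : Γ(Y, U) ⟶ CommRingCat.of L, Spec.map φ ≫ hU.fromSpec = e := by
    intro e he
    have hs : Set.range e ⊆ Set.range hU.fromSpec := by
      rw [hU.range_fromSpec, ← Scheme.Opens.range_ι U]
      exact range_subset_of_closedPoint e U (he ▸ hmem)
    exact ⟨Spec.preimage (IsOpenImmersion.lift hU.fromSpec e hs),
      by rw [Spec.map_preimage, IsOpenImmersion.lift_fac]⟩
  obtain ⟨φ, rfl⟩ := hr f rfl
  obtain ⟨ψ, rfl⟩ := hr g hfg.symm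
  suffices φ = ψ by rw [this]
  ext x
  refine (IsHausdorff.eq_iff_smodEq (I := I)).2 fun n => ?_
  rw [SModEq.sub_mem, smul_eq_mul, Ideal.mul_top, ← Ideal.Quotient.eq]
  have h1 := h n
  rw [← Category.assoc, ← Category.assoc, cancel_mono, ← Spec.map_comp, ← Spec.map_comp] at h1
  exact congr($(Spec.map_injective h1) x)

include hI in
theorem exists_algebraize_point [IsAdicComplete I L] (u : ∀ n, Spec (CommRingCat.of (L ⧸ I ^ n)) ⟶ Y)
    (hu : ∀ n, thickStep L I (Nat.le_succ n) ≫ u (n + 1) = u n) :
    ∃ f : Spec (CommRingCat.of L) ⟶ Y, ∀ n, thick L I n ≫ f = u n := by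
  have hloc : ∀ n, IsLocalRing (L ⧸ I ^ (n + 1)) := fun n => by
    have : Nontrivial (L ⧸ I ^ (n + 1)) := Ideal.Quotient.nontrivial_iff.2 fun h =>
      (maximalIdeal.isMaximal L).ne_top (top_le_iff.1 (h ▸ (Ideal.pow_le_self (Nat.succ_ne_zero n)).trans hI))
    exact IsLocalRing.of_surjective' _ Ideal.Quotient.mk_surjective
  -- all closed points have the same image
  have hy : ∀ n, u (n + 1) (@closedPoint _ _ (hloc n)) = u 1 (@closedPoint _ _ (hloc 0)) := by
    intro n
    induction n with
    | zero => rfl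
    | succ n ih =>
      rw [← ih, ← hu (n + 1), Scheme.Hom.comp_apply]
      congr 1
      have := hloc n
      have := hloc (n + 1)
      have hs : Function.Surjective (Ideal.Quotient.factor (Ideal.pow_le_pow_right (I := I) (Nat.le_succ (n + 1)))) :=
        Ideal.Quotient.factor_surjective _
      have := IsLocalHom.of_surjective _ hs
      exact (IsLocalRing.comap_closedPoint (Ideal.Quotient.factor (Ideal.pow_le_pow_right (I := I) (Nat.le_succ (n + 1))))).symm
  obtain ⟨U, hU, hmem, -⟩ := exists_isAffineOpen_mem_and_subset (x := u 1 (@closedPoint _ _ (hloc 0))) (U := ⊤) trivial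
  have hφ : ∀ n, ∃ φ : Γ(Y, U) ⟶ CommRingCat.of (L ⧸ I ^ n), Spec.map φ ≫ hU.fromSpec = u n := by
    intro n
    have hs : Set.range (u n) ⊆ Set.range hU.fromSpec := by
      rw [hU.range_fromSpec]
      cases n with
      | zero =>
        have : Subsingleton (L ⧸ I ^ 0) := Ideal.Quotient.subsingleton_iff.2 (by rw [pow_zero, Ideal.one_eq_top])
        rintro _ ⟨x, rfl⟩
        exact absurd (Subsingleton.elim x.asIdeal ⊤) x.isPrime.ne_top
      | succ n =>
        have := hloc n
        rw [← Scheme.Opens.range_ι U]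
        exact range_subset_of_closedPoint (u (n + 1)) U ((hy n).symm ▸ hmem)
    exact ⟨Spec.preimage (IsOpenImmersion.lift hU.fromSpec (u n) hs),
      by rw [Spec.map_preimage, IsOpenImmersion.lift_fac]⟩
  choose φ hφ using hφ
  have hcompat : ∀ n, φ (n + 1) ≫ CommRingCat.ofHom (Ideal.Quotient.factor (Ideal.pow_le_pow_right (I := I) (Nat.le_succ n))) = φ n := by
    intro n
    apply Spec.map_injective
    rw [← cancel_mono hU.fromSpec, Spec.map_comp, Category.assoc, hφ, hφ]
    exact hu n
  let ψ : ∀ n, Γ(Y, U) →+* L ⧸ I ^ n := fun n => (φ n).hom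
  have hψ : ∀ {m n : ℕ} (hle : m ≤ n), (Ideal.Quotient.factorPow I hle).comp (ψ n) = ψ m := by
    intro m n hle
    induction n, hle using Nat.le_induction with
    | base => ext x; simp
    | succ n hle ih =>
      rw [← ih, show ψ n = (Ideal.Quotient.factor (Ideal.pow_le_pow_right (Nat.le_succ n))).comp (ψ (n + 1)) from
        congrArg CommRingCat.Hom.hom (hcompat n).symm, ← RingHom.comp_assoc]
      congr 1
      ext x
      simp
  let Φ : Γ(Y, U) ⟶ CommRingCat.of L := CommRingCat.ofHom (IsAdicComplete.liftRingHom I ψ hψ)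
  refine ⟨Spec.map Φ ≫ hU.fromSpec, fun n => ?_⟩
  rw [← Category.assoc, ← Spec.map_comp, ← hφ n]
  congr 2
  ext x
  exact IsAdicComplete.mk_liftRingHom I ψ hψ n x

end Local

section Semilocal

variable (A : Type u) [CommRing A] [IsLocalRing A] [IsAdicComplete (maximalIdeal A) A]
  (B : Type u) [CommRing B] [Algebra A B] [Module.Finite A B] {Y : Scheme.{u}}

/-- The extension of the maximal ideal. -/
abbrev mExt : Ideal B := (maximalIdeal A).map (algebraMap A B)

include A in
theorem surjective_of_pi (n : MaximalSpectrum B) :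
    Function.Surjective (algebraMap B (Localization.AtPrime n.asIdeal)) := by
  classical
  obtain ⟨-, hb⟩ := bijective_pi A B
  intro y
  obtain ⟨x, hx⟩ := hb.2 (Function.update (0 : ∀ m : MaximalSpectrum B, Localization.AtPrime m.asIdeal) n y)
  refine ⟨x, (congrFun hx n).trans ?_⟩
  exact Function.update_self (β := fun m : MaximalSpectrum B => Localization.AtPrime m.asIdeal) n y _

theorem local_data [IsNoetherianRing A] (n : MaximalSpectrum B) :
    IsAdicComplete ((mExt A B).map (algebraMap B (Localization.AtPrime n.asIdeal))) (Localization.AtPrime n.asIdeal) ∧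
      (mExt A B).map (algebraMap B (Localization.AtPrime n.asIdeal)) ≤ maximalIdeal (Localization.AtPrime n.asIdeal) := by
  let L := Localization.AtPrime n.asIdeal
  have : Module.Finite A L := Module.Finite.of_surjective (IsScalarTower.toAlgHom A B L).toLinearMap (surjective_of_pi A B n)
  have hm : (mExt A B).map (algebraMap B L) = (maximalIdeal A).map (algebraMap A L) := by
    rw [Ideal.map_map, ← IsScalarTower.algebraMap_eq]
  rw [hm]
  refine ⟨(IsAdicComplete.map_algebraMap_iff _ _).2 (isAdicComplete_of_finite A (maximalIdeal A) L), ?_⟩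
  have : IsAdicComplete ((maximalIdeal A).map (algebraMap A L)) L :=
    (IsAdicComplete.map_algebraMap_iff _ _).2 (isAdicComplete_of_finite A (maximalIdeal A) L)
  exact (IsAdicComplete.le_jacobson_bot _).trans (le_of_eq (IsLocalRing.jacobson_eq_maximalIdeal ⊥ bot_ne_top))

/-- The reduction modulo a power of a local factor. -/
noncomputable abbrev locQuot (n : MaximalSpectrum B) (k : ℕ) :
    B ⧸ mExt A B ^ k →+* Localization.AtPrime n.asIdeal ⧸ (mExt A B).map (algebraMap B (Localization.AtPrime n.asIdeal)) ^ k :=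
  Ideal.quotientMap _ (algebraMap B (Localization.AtPrime n.asIdeal))
    (Ideal.map_le_iff_le_comap.1 (le_of_eq (Ideal.map_pow _ _ _)))

theorem bijective_locQuot (k : ℕ) :
    Function.Bijective (RingHom.pi fun n : MaximalSpectrum B => locQuot A B n k) := by
  classical
  obtain ⟨hfin, hb⟩ := bijective_pi A B
  have : Fintype (MaximalSpectrum B) := Fintype.ofFinite _
  constructor
  · rw [injective_iff_map_eq_zero]
    intro x hx
    obtain ⟨x, rfl⟩ := Ideal.Quotient.mk_surjective x
    rw [Ideal.Quotient.eq_zero_iff_mem]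
    have hn : ∀ n : MaximalSpectrum B, ∃ s ∈ mExt A B ^ k,
        algebraMap B (Localization.AtPrime n.asIdeal) s = algebraMap B (Localization.AtPrime n.asIdeal) x := by
      intro n
      have h : locQuot A B n k (Ideal.Quotient.mk _ x) = 0 := congrFun hx n
      rw [Ideal.quotientMap_mk, Ideal.Quotient.eq_zero_iff_mem, ← Ideal.map_pow] at h
      exact (Ideal.mem_map_iff_of_surjective _ (surjective_of_pi A B n)).1 h
    choose s hs hsx using hn
    choose δ hδ using fun n : MaximalSpectrum B => hb.2 (Pi.single n 1)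
    have hx' : x = ∑ n, δ n * s n := by
      apply hb.1
      funext m
      rw [map_sum, Finset.sum_apply, Finset.sum_eq_single m]
      · rw [map_mul, Pi.mul_apply, hδ, Pi.single_eq_same, one_mul]
        exact (hsx m).symm
      · intro n _ hn
        rw [map_mul, Pi.mul_apply, hδ, Pi.single_eq_of_ne (Ne.symm hn), zero_mul]
      · simp
    rw [hx']
    exact Ideal.sum_mem _ fun n _ => Ideal.mul_mem_left _ _ (hs n)
  · intro y
    choose z hz using fun n => Ideal.Quotient.mk_surjective (y n)
    obtain ⟨x, hx⟩ := hb.2 z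
    refine ⟨Ideal.Quotient.mk _ x, funext fun n => ?_⟩
    show locQuot A B n k (Ideal.Quotient.mk _ x) = y n
    rw [Ideal.quotientMap_mk, ← hz n, ← congrFun hx n]
    rfl

/-- The cover of the spectrum of a product. -/
theorem hom_ext_of_bijective_pi {ι : Type u} [Finite ι] {R : Type u} [CommRing R] (L : ι → Type u) [∀ i, CommRing (L i)]
    (e : ∀ i, R →+* L i) (he : Function.Bijective (RingHom.pi e)) {Y : Scheme.{u}} :
    (∀ f g : Spec (CommRingCat.of R) ⟶ Y, (∀ i, Spec.map (CommRingCat.ofHom (e i)) ≫ f = Spec.map (CommRingCat.ofHom (e i)) ≫ g) → f = g) ∧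
    ∀ v : ∀ i, Spec (CommRingCat.of (L i)) ⟶ Y, ∃ f : Spec (CommRingCat.of R) ⟶ Y,
      ∀ i, Spec.map (CommRingCat.ofHom (e i)) ≫ f = v i := by
  let E : CommRingCat.of R ≅ CommRingCat.of (∀ i, L i) := (RingEquiv.ofBijective _ he).toCommRingCatIso
  let s := sigmaSpec (fun i => CommRingCat.of (L i)) ≫ Spec.map E.hom
  have hs : ∀ i, Sigma.ι (fun i => Spec (CommRingCat.of (L i))) i ≫ s = Spec.map (CommRingCat.ofHom (e i)) := fun i => by
    rw [ι_sigmaSpec_assoc, ← Spec.map_comp]
    rfl
  have : IsIso s := inferInstance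
  refine ⟨fun f g h => ?_, fun v => ⟨inv s ≫ Sigma.desc v, fun i => ?_⟩⟩
  · rw [← cancel_epi s]
    refine Sigma.hom_ext _ _ fun i => ?_
    simp only [← Category.assoc]
    rw [hs]
    exact h i
  · rw [← hs i, Category.assoc, IsIso.hom_inv_id_assoc, Sigma.ι_desc]

theorem thick_natural (n : MaximalSpectrum B) (k : ℕ) :
    thick (Localization.AtPrime n.asIdeal) ((mExt A B).map (algebraMap B (Localization.AtPrime n.asIdeal))) k ≫
      Spec.map (CommRingCat.ofHom (algebraMap B (Localization.AtPrime n.asIdeal))) =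
    Spec.map (CommRingCat.ofHom (locQuot A B n k)) ≫ thick B (mExt A B) k := by
  rw [← Spec.map_comp, ← Spec.map_comp]
  rfl

/-- Points with values in a finite algebra over a complete Noetherian local ring are detected modulo powers. -/
theorem hom_ext_of_complete [IsNoetherianRing A] (f g : Spec (CommRingCat.of B) ⟶ Y)
    (h : ∀ k, thick B (mExt A B) k ≫ f = thick B (mExt A B) k ≫ g) : f = g := by
  obtain ⟨hfin, hb⟩ := bijective_pi A B
  refine (hom_ext_of_bijective_pi _ _ hb).1 f g fun n => ?_
  obtain ⟨hc, hle⟩ := local_data A B n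
  refine hom_ext_thick _ hle _ _ fun k => ?_
  rw [← Category.assoc, ← Category.assoc, thick_natural, Category.assoc, Category.assoc, h]

/-- Compatible systems of points modulo powers come from points. -/
theorem exists_algebraize_of_complete [IsNoetherianRing A] (u : ∀ k, Spec (CommRingCat.of (B ⧸ mExt A B ^ k)) ⟶ Y)
    (hu : ∀ k, thickStep B (mExt A B) (Nat.le_succ k) ≫ u (k + 1) = u k) :
    ∃ f : Spec (CommRingCat.of B) ⟶ Y, ∀ k, thick B (mExt A B) k ≫ f = u k := by
  obtain ⟨hfin, hb⟩ := bijective_pi A B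
  have hv : ∀ n : MaximalSpectrum B, ∃ v : Spec (CommRingCat.of (Localization.AtPrime n.asIdeal)) ⟶ Y, ∀ k,
      thick _ ((mExt A B).map (algebraMap B (Localization.AtPrime n.asIdeal))) k ≫ v =
        Spec.map (CommRingCat.ofHom (locQuot A B n k)) ≫ u k := by
    intro n
    obtain ⟨hc, hle⟩ := local_data A B n
    refine exists_algebraize_point _ hle _ fun k => ?_
    rw [← hu k, ← Category.assoc, ← Category.assoc, ← Spec.map_comp, ← Spec.map_comp]
    congr 2
    ext x
    rfl
  choose v hv using hv
  obtain ⟨f, hf⟩ := (hom_ext_of_bijective_pi _ _ hb).2 v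
  refine ⟨f, fun k => (hom_ext_of_bijective_pi _ _ (bijective_locQuot A B k)).1 _ _ fun n => ?_⟩
  rw [← Category.assoc, ← thick_natural, Category.assoc, hf, hv]

end Semilocal

end Groth.Agent.CplFin
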